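import Cfsg.Agent.ZN.ChoiceBase
import Cfsg.Agent.ZN.Facts
import Cfsg.Agent.MinSimple.Basic
import Cfsg.Agent.ClassificationK.TIPairBasic

section


/-!
# LEMMA K (OMEGA, helper612 #11397): two FF-blocks in a common 2-local have commuting modules

`G` is a finite group, `S` a Sylow 2-subgroup, `B = bau S = C_S(Ω₁Z(J(S)))` the Baumann subgroup.

* (B) `le_normalizer_bau` : a 2-subgroup `T ≥ bau S` normalises `bau S` (`jj_eq`, `bau_eq`, `zj_eq`);
* `Blk B L V` : `L` is a block over `B` with module `V`;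
* (K) `Blk.le_o2` : if `L ≤ H` and `C_H(O₂(H)) ≤ O₂(H)`, then `V ≤ Z(O₂(H))`;
* Corollary 1 `commute_of_common` : two blocks over `bau S` and `bau S'` in such an `H` have
  commuting modules; `commute_of_local`: the same for `H = N_G(U)` in a group of characteristic 2
  type, `nonLoc`: noncommuting modules give a nonlocal pair.
-/

set_option autoImplicit false

namespace Cfsg.Agent.Omega.LemmaK.Main

open Subgroup Cfsg Cfsg.Agent.ZN Cfsg.Agent.ZN.ChoiceBase

universe u

variable {G : Type u} [Group G]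

/-! ### (B) 2-subgroups over the Baumann subgroup of a Sylow subgroup -/

section Bau

variable [Finite G] (S : Sylow 2 G) {T : Subgroup G}

include S in
theorem key_aux (hT : IsPGroup 2 T) (h : bau (S : Subgroup G) ≤ T) :
    jj T = jj (S : Subgroup G) ∧ bau T = bau (S : Subgroup G) := by
  obtain ⟨S', hS'⟩ := hT.exists_le_sylow
  obtain ⟨g, hg⟩ := MulAction.exists_smul_eq G S S'
  have hg2 : (S' : Subgroup G) = cj g (S : Subgroup G) := by
    rw [← hg, Sylow.coe_subgroup_smul]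
    rfl
  have h1 : key T ≤ key (S : Subgroup G) := by
    refine (key_mono hS').trans ?_
    rw [hg2, key_cj]
  obtain ⟨-, h2, h3, -⟩ := of_key_le h h1
  exact ⟨h2, h3⟩

theorem jj_eq (hT : IsPGroup 2 T) (h : bau (S : Subgroup G) ≤ T) :
    jj T = jj (S : Subgroup G) := (key_aux S hT h).1

theorem bau_eq (hT : IsPGroup 2 T) (h : bau (S : Subgroup G) ≤ T) :
    bau T = bau (S : Subgroup G) := (key_aux S hT h).2

theorem zj_eq (hT : IsPGroup 2 T) (h : bau (S : Subgroup G) ≤ T) :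
    zj T = zj (S : Subgroup G) := by
  rw [← ChoiceBase.zj_bau T, bau_eq S hT h, ChoiceBase.zj_bau]

/-- (B) A 2-subgroup containing `bau S` normalises it. -/
theorem le_normalizer_bau (hT : IsPGroup 2 T) (h : bau (S : Subgroup G) ≤ T) :
    T ≤ normalizer (bau (S : Subgroup G) : Set G) := by
  rw [← bau_eq S hT h]
  exact Subgroup.le_normalizer.trans (normalizer_le_bau T)

/-- The same for the conjugates of `bau S`. -/
theorem le_normalizer_cj_bau (x : G) (hT : IsPGroup 2 T) (h : cj x (bau (S : Subgroup G)) ≤ T) :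
    T ≤ normalizer ((cj x (bau (S : Subgroup G)) : Subgroup G) : Set G) := by
  have h1 : bau (S : Subgroup G) ≤ cj x⁻¹ T := cj_le_iff.mp h
  have h2 := le_normalizer_bau S (isPGroup_cj x⁻¹ hT) h1
  have h3 := cj_mono x h2
  rwa [cj_cj_inv, cj_normalizer] at h3

end Bau

/-! ### Blocks -/

/-- `L` is a block over (the Baumann subgroup) `B` with module `V`: `L = ⟨B^L⟩`, `V ≤ L` is
normalised by every element normalising `L` and `⟨Ω₁Z(B)^L⟩`, `O₂(L)` centralises `V` and every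
2-element acting on `V` and commuting there with `L` centralises `V`. -/
structure Blk (B L V : Subgroup G) : Prop where
  le : B ≤ L
  gen : L ≤ ⨆ x : L, cj (x : G) B
  VL : V ≤ L
  nor : ∀ w : G, w ∈ normalizer (L : Set G) → w ∈ normalizer (zl B L : Set G) →
    w ∈ normalizer (V : Set G)
  cent : o2 L ≤ centralizer (V : Set G)
  rigid : ∀ w : G, IsPGroup 2 (zpowers w) → w ∈ normalizer (V : Set G) →
    (∀ x ∈ L, w * x * w⁻¹ * x⁻¹ ∈ centralizer (V : Set G)) → w ∈ centralizer (V : Set G)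

variable {B L V : Subgroup G}

theorem Blk.eq_iSup (h : Blk B L V) : L = ⨆ x : L, cj (x : G) B := by
  apply le_antisymm h.gen
  refine iSup_le fun x => ?_
  rintro _ ⟨b, hb, rfl⟩
  exact L.mul_mem (L.mul_mem x.2 (h.le hb)) (L.inv_mem x.2)

theorem cj_le_of_mem {x : G} (h : B ≤ L) (hx : x ∈ L) : cj x B ≤ L := by
  rintro _ ⟨b, hb, rfl⟩
  exact L.mul_mem (L.mul_mem hx (h hb)) (L.inv_mem hx)

/-- An element normalising all members of a family normalises their join. -/
theorem mem_normalizer_iSup {ι : Sort*} {F : ι → Subgroup G} {w : G}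
    (h : ∀ i, w ∈ normalizer (F i : Set G)) : w ∈ normalizer ((⨆ i, F i : Subgroup G) : Set G) := by
  rw [mem_normalizer_iff_cj]
  have h1 : cj w (⨆ i, F i) = ⨆ i, cj w (F i) := Subgroup.map_iSup _ _
  rw [h1]
  exact iSup_congr fun i => mem_normalizer_iff_cj.mp (h i)

theorem zc_cj (x : G) (B : Subgroup G) : zc (cj x B) = cj x (zc B) :=
  zc_map _ (MulAut.conj x).injective B

/-- Conjugating a block. -/
theorem Blk.map (h : Blk B L V) (g : G) : Blk (cj g B) (cj g L) (cj g V) where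
  le := cj_mono g h.le
  gen := by
    refine (cj_mono g h.gen).trans ?_
    have h1 : cj g (⨆ x : L, cj (x : G) B) = ⨆ x : L, cj g (cj (x : G) B) := Subgroup.map_iSup _ _
    rw [h1]
    refine iSup_le fun x => ?_
    have hx : g * x * g⁻¹ ∈ cj g L := by
      rw [mem_cj]
      have : g⁻¹ * (g * (x : G) * g⁻¹) * g = x := by group
      rw [this]
      exact x.2
    refine le_trans ?_ (le_iSup (fun y : (cj g L : Subgroup G) => cj (y : G) (cj g B))
      ⟨g * x * g⁻¹, hx⟩)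
    change cj g (cj (x : G) B) ≤ cj (g * x * g⁻¹) (cj g B)
    rw [cj_cj, cj_cj]
    have : g * (x : G) * g⁻¹ * g = g * x := by group
    rw [this]
  VL := cj_mono g h.VL
  nor := by
    intro w hw1 hw2
    have e : ∀ K : Subgroup G, w ∈ normalizer ((cj g K : Subgroup G) : Set G) ↔
        g⁻¹ * w * g ∈ normalizer (K : Set G) := by
      intro K
      rw [← cj_normalizer, mem_cj]
    have h2 : zl (cj g B) (cj g L) = cj g (zl B L) := zl_map _ (MulAut.conj g).injective B L
    rw [h2, e] at hw2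
    rw [e] at hw1 ⊢
    exact h.nor _ hw1 hw2
  cent := by
    rw [pCore_cj, ← cj_centralizer]
    exact cj_mono g h.cent
  rigid := by
    intro w hw2 hwn hwc
    rw [← cj_centralizer, mem_cj]
    refine h.rigid _ ?_ ?_ fun x hx => ?_
    · have h1 : zpowers (g⁻¹ * w * g) ≤ cj g⁻¹ (zpowers w) := by
        rw [zpowers_le, mem_cj]
        have : g⁻¹⁻¹ * (g⁻¹ * w * g) * g⁻¹ = w := by group
        rw [this]
        exact mem_zpowers w
      exact (isPGroup_cj g⁻¹ hw2).to_le h1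
    · rw [← cj_normalizer, mem_cj] at hwn
      exact hwn
    · have hx' : g * x * g⁻¹ ∈ cj g L := by
        rw [mem_cj]
        have : g⁻¹ * (g * x * g⁻¹) * g = x := by group
        rwa [this]
      have h1 := hwc _ hx'
      rw [← cj_centralizer, mem_cj] at h1
      have h2 : g⁻¹ * w * g * x * (g⁻¹ * w * g)⁻¹ * x⁻¹ =
          g⁻¹ * (w * (g * x * g⁻¹) * w⁻¹ * (g * x * g⁻¹)⁻¹) * g := by group
      rw [h2]
      exact h1

/-! ### (K) -/

section K

variable [Finite G]

/-- The Baumann conjugates in a block are normalised by `O₂(H)`, `L ≤ H`. -/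
theorem o2_le_normalizer_cj (S : Sylow 2 G) (h : Blk (bau (S : Subgroup G)) L V) {H : Subgroup G}
    (hL : L ≤ H) {x : G} (hx : x ∈ L) :
    o2 H ≤ normalizer ((cj x (bau (S : Subgroup G)) : Subgroup G) : Set G) := by
  have h1 : cj x (bau (S : Subgroup G)) ≤ H := (cj_le_of_mem h.le hx).trans hL
  have h2 : IsPGroup 2 (cj x (bau (S : Subgroup G)) : Subgroup G) :=
    isPGroup_cj x (S.isPGroup'.to_le (ChoiceBase.bau_le _))
  have h3 : IsPGroup 2 (cj x (bau (S : Subgroup G)) ⊔ o2 H : Subgroup G) :=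
    IsPGroup.to_sup_of_normal_right' h2 (isPGroup_o2 H) (h1.trans (le_normalizer_o2 H))
  exact le_sup_right.trans (le_normalizer_cj_bau S x h3 le_sup_left)

/-- (K) The module of a block contained in a group `H` with `C_H(O₂(H)) ≤ O₂(H)` lies in
`Z(O₂(H))`. -/
theorem Blk.le_o2 (S : Sylow 2 G) (h : Blk (bau (S : Subgroup G)) L V) {H : Subgroup G}
    (hH : H ⊓ centralizer (o2 H : Set G) ≤ o2 H) (hL : L ≤ H) :
    V ≤ o2 H ⊓ centralizer (o2 H : Set G) := by
  have hn : ∀ w ∈ o2 H, ∀ x ∈ L, w ∈ normalizer ((cj x (bau (S : Subgroup G)) : Subgroup G) :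
      Set G) := fun w hw x hx => o2_le_normalizer_cj S h hL hx hw
  have hnL : ∀ w ∈ o2 H, w ∈ normalizer (L : Set G) := by
    intro w hw
    rw [h.eq_iSup]
    exact mem_normalizer_iSup fun x => hn w hw x x.2
  have hnZ : ∀ w ∈ o2 H, w ∈ normalizer (zl (bau (S : Subgroup G)) L : Set G) := by
    intro w hw
    refine mem_normalizer_iSup fun x => ?_
    have h1 := normalizer_le_normalizer_zc _ (hn w hw x x.2)
    rwa [zc_cj] at h1
  have hc : ∀ w ∈ o2 H, w ∈ centralizer (V : Set G) := by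
    intro w hw
    refine h.rigid w ?_ (h.nor w (hnL w hw) (hnZ w hw)) fun x hx => ?_
    · exact (isPGroup_o2 H).to_le (by rwa [zpowers_le])
    · apply h.cent
      have h1 : o2 H ⊓ L ≤ o2 L := by
        refine ZN.le_o2 inf_le_right ((isPGroup_o2 H).to_le inf_le_left) ?_
        intro y hy
        rw [mem_normalizer_iff_cj, cj_inf,
          cj_eq_of_mem_normalizer ((le_normalizer_o2 H) (hL hy)),
          cj_eq_of_mem_normalizer (Subgroup.le_normalizer hy)]
      refine h1 ⟨?_, ?_⟩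
      · have h2 : x * w⁻¹ * x⁻¹ ∈ o2 H :=
          (mem_normalizer_iff.mp ((le_normalizer_o2 H) (hL hx)) _).mp ((o2 H).inv_mem hw)
        have h3 : w * x * w⁻¹ * x⁻¹ = w * (x * w⁻¹ * x⁻¹) := by group
        rw [h3]
        exact (o2 H).mul_mem hw h2
      · have h2 : w * x * w⁻¹ ∈ L := (mem_normalizer_iff.mp (hnL w hw) _).mp hx
        exact L.mul_mem h2 (L.inv_mem hx)
  have h4 : V ≤ centralizer (o2 H : Set G) := by
    intro v hv
    rw [mem_centralizer_iff]
    intro w hw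
    exact (mem_centralizer_iff.mp (hc w hw) v hv).symm
  exact le_inf (fun v hv => hH ⟨hL (h.VL hv), h4 hv⟩) h4

/-- Corollary 1: two blocks (over Baumann subgroups of Sylow subgroups) in a common `H` with
`C_H(O₂(H)) ≤ O₂(H)` have commuting modules. -/
theorem commute_of_common (S S' : Sylow 2 G) {L' V' : Subgroup G}
    (h : Blk (bau (S : Subgroup G)) L V) (h' : Blk (bau (S' : Subgroup G)) L' V')
    {H : Subgroup G} (hH : H ⊓ centralizer (o2 H : Set G) ≤ o2 H) (hL : L ≤ H) (hL' : L' ≤ H) :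
    ∀ v ∈ V, ∀ w ∈ V', v * w = w * v := by
  intro v hv w hw
  have h1 := h.le_o2 S hH hL hv
  have h2 := h'.le_o2 S' hH hL' hw
  exact mem_centralizer_iff.mp h2.2 v h1.1

/-- Corollary 1 in a group of characteristic 2 type: `L, L' ≤ N_G(U)`, `U ≠ 1` a 2-subgroup. -/
theorem commute_of_local (hG : IsCharacteristicTwoType G) (S S' : Sylow 2 G) {L' V' : Subgroup G}
    (h : Blk (bau (S : Subgroup G)) L V) (h' : Blk (bau (S' : Subgroup G)) L' V')
    {U : Subgroup G} (hU : IsPGroup 2 U) (hU1 : U ≠ ⊥) (hL : L ≤ normalizer (U : Set G))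
    (hL' : L' ≤ normalizer (U : Set G)) : ∀ v ∈ V, ∀ w ∈ V', v * w = w * v :=
  commute_of_common S S' h h' (MinSimple.Basic.char2_normalizer hG hU hU1) hL hL'

/-- Noncommuting modules: no nontrivial 2-subgroup is normalised by both blocks. -/
theorem eq_bot_of_not_commute (hG : IsCharacteristicTwoType G) (S S' : Sylow 2 G)
    {L' V' : Subgroup G} (h : Blk (bau (S : Subgroup G)) L V)
    (h' : Blk (bau (S' : Subgroup G)) L' V') {v w : G} (hv : v ∈ V) (hw : w ∈ V')
    (hvw : v * w ≠ w * v) (U : Subgroup G) (hU : IsPGroup 2 U)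
    (hL : L ≤ normalizer (U : Set G)) (hL' : L' ≤ normalizer (U : Set G)) : U = ⊥ := by
  by_contra hU1
  exact hvw (commute_of_local hG S S' h h' hU hU1 hL hL' v hv w hw)

end K

end Cfsg.Agent.Omega.LemmaK.Main

end

section


/-!
# LEMMA K: making blocks

* `endo_of_irr` : if `V` is an abelian 2-group, `V / C_V(L)` is irreducible and `V = [V, L]`, then
  a 2-group acting on `V` and commuting there with `L` centralises `V`;
* `rigid_of_irr` : the field `rigid` of `LemmaK.Main.Blk`;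
* `Blk.of_irr` : a block from `L = ⟨B ^ L⟩`, `V ≤ L`, `O₂(L) ≤ C(V)`, `V / C_V(L)` irreducible;
* `norm_zl`, `norm_vl` : `V = vl B L` satisfies `nor`.
-/

set_option autoImplicit false

namespace Cfsg.Agent.Omega.LemmaK.Endo

open Subgroup Cfsg Cfsg.Agent.ZN Cfsg.Agent.ZN.ChoiceBase
open Cfsg.Agent.Omega.LemmaK.Main
open scoped commutatorElement

universe u

variable {G : Type u} [Group G] {B L V : Subgroup G}

/-- The axiom `endo` when `V / C_V(L)` is irreducible and `V = [V, L]`. -/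
theorem endo_of_irr [Finite G] (hV : IsPGroup 2 V) (hVc : ∀ x ∈ V, ∀ y ∈ V, x * y = y * x)
    (hLV : L ≤ normalizer (V : Set G)) (hVL : V ≤ ⁅V, L⁆)
    (hirr : ∀ U : Subgroup G, U ≤ V → V ⊓ centralizer (L : Set G) ≤ U →
      L ≤ normalizer (U : Set G) → ¬ U ≤ V ⊓ centralizer (L : Set G) → V ≤ U)
    (W : Subgroup G) (hW : IsPGroup 2 W) (hWV : W ≤ normalizer (V : Set G))
    (hWL : ∀ w ∈ W, ∀ x ∈ L, w * x * w⁻¹ * x⁻¹ ∈ centralizer (V : Set G)) :
    W ≤ centralizer (V : Set G) := by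
  have : Fact (Nat.Prime 2) := ⟨Nat.prime_two⟩
  set C := V ⊓ centralizer (L : Set G) with hC
  have hcj : ∀ {g v : G}, g ∈ normalizer (V : Set G) → v ∈ V → g * v * g⁻¹ ∈ V :=
    fun hg hv => (mem_normalizer_iff.1 hg _).1 hv
  -- `w` and `x` commute on `V`
  have hwx : ∀ w ∈ W, ∀ x ∈ L, ∀ v ∈ V,
      x * (w * v * w⁻¹) * x⁻¹ = w * (x * v * x⁻¹) * w⁻¹ := by
    intro w hw x hx v hv
    have h1 : x * (w * v * w⁻¹) * x⁻¹ ∈ V := hcj (hLV hx) (hcj (hWV hw) hv)
    have h2 := mem_centralizer_iff.1 (hWL w hw x hx) _ h1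
    -- `(x w v w⁻¹ x⁻¹) (w x w⁻¹ x⁻¹) = (w x w⁻¹ x⁻¹) (x w v w⁻¹ x⁻¹)`
    have h3 : w * x * w⁻¹ * x⁻¹ * (x * (w * v * w⁻¹) * x⁻¹) = w * x * v * w⁻¹ * x⁻¹ := by group
    rw [h3] at h2
    have h4 : x * (w * v * w⁻¹) * x⁻¹ = w * x * v * w⁻¹ * x⁻¹ * (w * x * w⁻¹ * x⁻¹)⁻¹ := by
      rw [← h2]; group
    rw [h4]; group
  -- `C` is `W`-invariant
  have hCW : ∀ w ∈ W, ∀ c ∈ C, w * c * w⁻¹ ∈ C := by
    intro w hw c hc
    refine ⟨hcj (hWV hw) hc.1, mem_centralizer_iff.2 fun x hx => ?_⟩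
    have h1 := hwx w hw x hx c hc.1
    have h2 : x * c * x⁻¹ = c := by
      rw [mem_centralizer_iff.1 hc.2 x hx]; group
    rw [h2] at h1
    calc x * (w * c * w⁻¹) = x * (w * c * w⁻¹) * x⁻¹ * x := by group
      _ = w * c * w⁻¹ * x := by rw [h1]
  by_cases hVC : V ≤ C
  · -- then `V = [V, L] = 1`
    have h1 : ⁅V, L⁆ = ⊥ := by
      rw [Subgroup.commutator_eq_bot_iff_le_centralizer]
      exact hVC.trans inf_le_right
    rw [h1, le_bot_iff] at hVL
    rw [hVL]
    intro w _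
    rw [mem_centralizer_iff]
    intro x hx
    have : x = 1 := hx
    rw [this]; group
  · -- the subgroup of elements fixed modulo `C`
    let U : Subgroup G :=
      { carrier := {v | v ∈ V ∧ ∀ w ∈ W, v⁻¹ * (w * v * w⁻¹) ∈ C}
        one_mem' := ⟨one_mem _, fun w _ => by
          have : (1 : G)⁻¹ * (w * 1 * w⁻¹) = 1 := by group
          rw [this]; exact one_mem _⟩
        mul_mem' := by
          rintro a b ⟨ha, ha'⟩ ⟨hb, hb'⟩
          refine ⟨mul_mem ha hb, fun w hw => ?_⟩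
          have h1 : (a * b)⁻¹ * (w * (a * b) * w⁻¹) =
              b⁻¹ * (a⁻¹ * (w * a * w⁻¹)) * (w * b * w⁻¹) := by group
          have h2 : b⁻¹ * (a⁻¹ * (w * a * w⁻¹)) = a⁻¹ * (w * a * w⁻¹) * b⁻¹ :=
            hVc _ (inv_mem hb) _ (ha' w hw).1
          rw [h1, h2]
          have h3 : a⁻¹ * (w * a * w⁻¹) * b⁻¹ * (w * b * w⁻¹) =
              a⁻¹ * (w * a * w⁻¹) * (b⁻¹ * (w * b * w⁻¹)) := by group
          rw [h3]
          exact mul_mem (ha' w hw) (hb' w hw)
        inv_mem' := by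
          rintro a ⟨ha, ha'⟩
          refine ⟨inv_mem ha, fun w hw => ?_⟩
          have h1 : a⁻¹⁻¹ * (w * a⁻¹ * w⁻¹) = (w * a * w⁻¹ * a⁻¹)⁻¹ := by group
          have h2 : w * a * w⁻¹ * a⁻¹ = a⁻¹ * (w * a * w⁻¹) :=
            hVc _ (hcj (hWV hw) ha) _ (inv_mem ha)
          rw [h1, h2]
          exact inv_mem (ha' w hw) }
    obtain ⟨z, hzV, hzC, hz⟩ := ClassificationK.TIPair.exists_fixed_mod (p := 2) (P := W)
      (V := C) (N := V) hW hV hVC hCW (fun w hw v hv => hcj (hWV hw) hv)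
    have hUV : V ≤ U := by
      refine hirr U (fun v hv => hv.1) (fun c hc => ⟨hc.1, fun w hw => ?_⟩) ?_
        (fun h => hzC (h ⟨hzV, hz⟩))
      · exact mul_mem (inv_mem hc) (hCW w hw c hc)
      · intro x hx
        refine mem_normalizer_of_cj_le ?_
        rintro _ ⟨v, ⟨hv, hv'⟩, rfl⟩
        refine ⟨hcj (hLV hx) hv, fun w hw => ?_⟩
        have h1 : w * (x * v * x⁻¹) * w⁻¹ = x * (w * v * w⁻¹) * x⁻¹ := (hwx w hw x hx v hv).symm
        have h2 : (x * v * x⁻¹)⁻¹ * (w * (x * v * x⁻¹) * w⁻¹) =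
            x * (v⁻¹ * (w * v * w⁻¹)) * x⁻¹ := by rw [h1]; group
        change (x * v * x⁻¹)⁻¹ * (w * (x * v * x⁻¹) * w⁻¹) ∈ C
        rw [h2]
        have h3 : x * (v⁻¹ * (w * v * w⁻¹)) * x⁻¹ = v⁻¹ * (w * v * w⁻¹) := by
          rw [mem_centralizer_iff.1 (hv' w hw).2 x hx]; group
        rw [h3]
        exact hv' w hw
    -- now `[V, L] ≤ C_V(w)`
    intro w hw
    rw [mem_centralizer_iff]
    have h5 : ⁅V, L⁆ ≤ centralizer ({w} : Set G) := by
      rw [Subgroup.commutator_le]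
      intro v hv x hx
      rw [mem_centralizer_singleton_iff]
      have h6 := (hUV hv).2 w hw
      -- `w v w⁻¹ = v c`, `c ∈ C`
      set c := v⁻¹ * (w * v * w⁻¹) with hc
      have h7 : w * v * w⁻¹ = v * c := by rw [hc]; group
      have h8 : w * (x * v * x⁻¹) * w⁻¹ = x * v * x⁻¹ * c := by
        rw [← hwx w hw x hx v hv, h7]
        have h9 : x * c = c * x := mem_centralizer_iff.1 h6.2 x hx
        calc x * (v * c) * x⁻¹ = x * v * (c * x⁻¹) := by group
          _ = x * v * (x⁻¹ * c) := by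
            congr 1
            calc c * x⁻¹ = x⁻¹ * (x * c) * x⁻¹ := by group
              _ = x⁻¹ * (c * x) * x⁻¹ := by rw [h9]
              _ = x⁻¹ * c := by group
          _ = x * v * x⁻¹ * c := by group
      have hcV : c ∈ V := h6.1
      have h10 : c * (x * v⁻¹ * x⁻¹) = x * v⁻¹ * x⁻¹ * c :=
        hVc _ hcV _ (hcj (hLV hx) (inv_mem hv))
      have h11 : w * ⁅v, x⁆ * w⁻¹ = ⁅v, x⁆ := by
        rw [commutatorElement_def]
        have e1 : w * (v * x * v⁻¹ * x⁻¹) * w⁻¹ =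
            (w * v * w⁻¹) * (w * (x * v * x⁻¹) * w⁻¹)⁻¹ := by group
        rw [e1, h7, h8]
        group
      calc ⁅v, x⁆ * w = w * ⁅v, x⁆ * w⁻¹ * w := by rw [h11]
        _ = w * ⁅v, x⁆ := by group
    intro v hv
    have h12 := mem_centralizer_singleton_iff.1 (h5 (hVL hv))
    exact h12

/-- The field `rigid` of a block. -/
theorem rigid_of_irr [Finite G] (hV : IsPGroup 2 V) (hVc : ∀ x ∈ V, ∀ y ∈ V, x * y = y * x)
    (hLV : L ≤ normalizer (V : Set G)) (hVL : V ≤ ⁅V, L⁆)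
    (hirr : ∀ U : Subgroup G, U ≤ V → V ⊓ centralizer (L : Set G) ≤ U →
      L ≤ normalizer (U : Set G) → ¬ U ≤ V ⊓ centralizer (L : Set G) → V ≤ U)
    (w : G) (hw2 : IsPGroup 2 (zpowers w)) (hwV : w ∈ normalizer (V : Set G))
    (hwL : ∀ x ∈ L, w * x * w⁻¹ * x⁻¹ ∈ centralizer (V : Set G)) :
    w ∈ centralizer (V : Set G) := by
  have hcn : ∀ {g c : G}, g ∈ normalizer (V : Set G) → c ∈ centralizer (V : Set G) →
      g * c * g⁻¹ ∈ centralizer (V : Set G) := by
    intro g c hg hc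
    rw [mem_centralizer_iff] at hc ⊢
    intro v hv
    have h1 : g⁻¹ * v * g ∈ V := by
      have h2 := (mem_normalizer_iff.1 (inv_mem hg) v).1 hv
      rwa [inv_inv] at h2
    have h3 := hc _ h1
    calc v * (g * c * g⁻¹) = g * ((g⁻¹ * v * g) * c) * g⁻¹ := by group
      _ = g * (c * (g⁻¹ * v * g)) * g⁻¹ := by rw [h3]
      _ = g * c * g⁻¹ * v := by group
  -- the elements of `G` normalising `V` and commuting with `L` on `V` form a subgroup
  let D : Subgroup G :=
    { carrier := {y | y ∈ normalizer (V : Set G) ∧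
        ∀ x ∈ L, y * x * y⁻¹ * x⁻¹ ∈ centralizer (V : Set G)}
      one_mem' := ⟨one_mem _, fun x _ => by
        have : (1 : G) * x * 1⁻¹ * x⁻¹ = 1 := by group
        rw [this]; exact one_mem _⟩
      mul_mem' := by
        rintro a b ⟨ha, ha'⟩ ⟨hb, hb'⟩
        refine ⟨mul_mem ha hb, fun x hx => ?_⟩
        have h1 : a * b * x * (a * b)⁻¹ * x⁻¹ =
            (a * (b * x * b⁻¹ * x⁻¹) * a⁻¹) * (a * x * a⁻¹ * x⁻¹) := by group
        rw [h1]
        exact mul_mem (hcn ha (hb' x hx)) (ha' x hx)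
      inv_mem' := by
        rintro a ⟨ha, ha'⟩
        refine ⟨inv_mem ha, fun x hx => ?_⟩
        have h1 : a⁻¹ * x * a⁻¹⁻¹ * x⁻¹ = a⁻¹ * (a * x * a⁻¹ * x⁻¹)⁻¹ * a⁻¹⁻¹ := by group
        rw [h1]
        exact hcn (inv_mem ha) (inv_mem (ha' x hx)) }
  have hD : zpowers w ≤ D := by
    rw [zpowers_le]
    exact ⟨hwV, hwL⟩
  exact endo_of_irr hV hVc hLV hVL hirr (zpowers w) hw2 (fun y hy => (hD hy).1)
    (fun y hy => (hD hy).2) (mem_zpowers w)

/-- An element normalising `L` and `zl B L` normalises `vl B L = [zl B L, L]`. -/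
theorem norm_vl {w : G} (h1 : w ∈ normalizer (L : Set G))
    (h2 : w ∈ normalizer (zl B L : Set G)) : w ∈ normalizer (vl B L : Set G) := by
  rw [mem_normalizer_iff_cj] at h1 h2 ⊢
  rw [vl]
  change Subgroup.map _ ⁅zl B L, L⁆ = _
  rw [Subgroup.map_commutator]
  change ⁅ChoiceBase.cj w (zl B L), ChoiceBase.cj w L⁆ = _
  rw [h1, h2]

/-- The same for `V = [zl B L, O²(L)]`. -/
theorem norm_comm_rl {w : G} {K : Subgroup G} (hK : w ∈ normalizer (K : Set G))
    (h2 : w ∈ normalizer (zl B L : Set G)) : w ∈ normalizer ((⁅zl B L, K⁆ : Subgroup G) : Set G) := by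
  rw [mem_normalizer_iff_cj] at hK h2 ⊢
  change Subgroup.map _ ⁅zl B L, K⁆ = _
  rw [Subgroup.map_commutator]
  change ⁅ChoiceBase.cj w (zl B L), ChoiceBase.cj w K⁆ = _
  rw [hK, h2]

/-- A block from an irreducible `V / C_V(L)`. -/
theorem _root_.Cfsg.Agent.Omega.LemmaK.Main.Blk.of_irr [Finite G] (hle : B ≤ L)
    (hgen : L ≤ ⨆ x : L, cj (x : G) B) (hVL : V ≤ L)
    (hnor : ∀ w : G, w ∈ normalizer (L : Set G) → w ∈ normalizer (zl B L : Set G) →
      w ∈ normalizer (V : Set G)) (hcent : o2 L ≤ centralizer (V : Set G))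
    (hV : IsPGroup 2 V) (hVc : ∀ x ∈ V, ∀ y ∈ V, x * y = y * x) (hVL' : V ≤ ⁅V, L⁆)
    (hirr : ∀ U : Subgroup G, U ≤ V → V ⊓ centralizer (L : Set G) ≤ U →
      L ≤ normalizer (U : Set G) → ¬ U ≤ V ⊓ centralizer (L : Set G) → V ≤ U) :
    Blk B L V where
  le := hle
  gen := hgen
  VL := hVL
  nor := hnor
  cent := hcent
  rigid := fun w hw2 hwV hwL => by
    refine rigid_of_irr hV hVc (fun x hx => hnor x (Subgroup.le_normalizer hx) ?_) hVL' hirr w hw2
      hwV hwL
    refine mem_normalizer_of_cj_le ?_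
    rw [zl]
    change Subgroup.map _ _ ≤ _
    rw [Subgroup.map_iSup]
    refine iSup_le fun g => ?_
    change ChoiceBase.cj x (ChoiceBase.cj (g : G) (zc B)) ≤ _
    rw [cj_cj]
    exact le_iSup (fun g : L => (zc B).map (MulAut.conj (g : G)).toMonoidHom)
      ⟨x * g, L.mul_mem hx g.2⟩


end Cfsg.Agent.Omega.LemmaK.Endo

end
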